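import Groth.Agent.QCoh.ExtendFT
import Groth.Agent.RefX.Hom
import Groth.Agent.ZClosLib.Basic

/-!
# A submodule of finite type of a quasi-coherent module is quasi-coherent
-/

universe u

set_option backward.isDefEq.respectTransparency false
set_option backward.isDefEq.respectTransparency.types false
set_option linter.style.haveILetI false

open CategoryTheory CategoryTheory.Limits AlgebraicGeometry TopologicalSpace Opposite

namespace Groth.Agent.Deform.SubFT

variable {X : Scheme.{u}} {F A : X.Modules}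

/-- The image, as a submodule. -/
noncomputable def imSub (ι : F ⟶ A) : QCoh.SubMod A where
  mem O :=
    { carrier := {s | ∀ (y : X) (hy : y ∈ O), A.presheaf.germ O y hy s ∈ LinearMap.range (RefHull.stalkMapₗ ι y)}
      zero_mem' := fun y hy => by rw [map_zero]; exact zero_mem _
      add_mem' := fun ha hb y hy => by rw [map_add]; exact add_mem (ha y hy) (hb y hy)
      smul_mem' := fun a s hs y hy => by rw [QCoh.germ_smul']; exact Submodule.smul_mem _ _ (hs y hy) }
  map_mem {O O'} i {s} hs y hy := by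
    rw [TopCat.Presheaf.germ_res_apply]; exact hs y (i hy)
  of_locally O s h y hy := by
    obtain ⟨V, i, hyV, hV⟩ := h y hy
    have := hV y hyV
    rwa [TopCat.Presheaf.germ_res_apply] at this

theorem app_mem (ι : F ⟶ A) (O : X.Opens) (s : Γ(F, O)) : ι.app O s ∈ (imSub ι).mem O := fun y hy =>
  ⟨F.presheaf.germ O y hy s, TopCat.Presheaf.stalkFunctor_map_germ_apply O y hy ι.mapPresheaf s⟩

/-- A germ in the span of germs lifts to a section in the span near the point. -/
theorem exists_lift_span_germ {V : X.Opens} (T : Set Γ(A, V)) {x : X} (hx : x ∈ V) {z : A.presheaf.stalk x}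
    (hz : z ∈ Submodule.span (X.presheaf.stalk x) (A.presheaf.germ V x hx '' T)) :
    ∃ (P : X.Opens) (hP : P ≤ V) (hxP : x ∈ P) (w : Γ(A, P)),
      w ∈ Submodule.span Γ(X, P) (QCoh.rs A hP '' T) ∧ A.presheaf.germ P x hxP w = z := by
  induction hz using Submodule.span_induction with
  | mem y hy =>
    obtain ⟨t, ht, rfl⟩ := hy
    exact ⟨V, le_rfl, hx, _, Submodule.subset_span ⟨t, ht, rfl⟩, TopCat.Presheaf.germ_res_apply _ _ _ _ _⟩
  | zero => exact ⟨V, le_rfl, hx, 0, zero_mem _, map_zero _⟩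
  | add a b _ _ ha hb =>
    obtain ⟨P, hP, hxP, w, hw, ew⟩ := ha
    obtain ⟨P', hP', hxP', w', hw', ew'⟩ := hb
    refine ⟨P ⊓ P', inf_le_left.trans hP, ⟨hxP, hxP'⟩,
      QCoh.rs A inf_le_left w + QCoh.rs A inf_le_right w', add_mem (QCoh.span_image_rs_le hP inf_le_left hw)
        (QCoh.span_image_rs_le hP' inf_le_right hw'), ?_⟩
    rw [map_add, TopCat.Presheaf.germ_res_apply, TopCat.Presheaf.germ_res_apply, ew, ew']
  | smul r a _ ha =>
    obtain ⟨P, hP, hxP, w, hw, ew⟩ := ha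
    obtain ⟨Q, hxQ, c, rfl⟩ := TopCat.Presheaf.exists_germ_eq X.presheaf r
    refine ⟨P ⊓ Q, inf_le_left.trans hP, ⟨hxP, hxQ⟩, QCoh.rf X inf_le_right c • QCoh.rs A inf_le_left w,
      Submodule.smul_mem _ _ (QCoh.span_image_rs_le hP inf_le_left hw), ?_⟩
    rw [QCoh.germ_smul', TopCat.Presheaf.germ_res_apply, TopCat.Presheaf.germ_res_apply, ew]

theorem ftOn_imSub (ι : F ⟶ A) (hF : CohB1.IsFT F) : QCoh.FTOn (imSub ι) ⊤ := by
  intro x _
  haveI : SheafOfModules.IsFiniteType (R := X.ringCatSheaf) F := hF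
  obtain ⟨σ, hσ⟩ := hF.exists_localGeneratorsData
  obtain ⟨k, hk⟩ := ((Opens.coversTop_iff _ σ.X).1 σ.coversTop).exists_mem x
  haveI : Finite (σ.generators k).I := (hσ.isFiniteType k).finite
  obtain ⟨V, hV, hxV, hVk⟩ := exists_isAffineOpen_mem_and_subset hk
  let g : (σ.generators k).I → Γ(F, σ.X k) := fun j => ((σ.generators k).s j).eval (op (Over.mk (𝟙 (σ.X k))))
  refine ⟨V, hV, hxV, le_top, Set.range fun j => ι.app V (AModX.res F hVk (g j)), Set.finite_range _, ?_, ?_⟩
  · rintro _ ⟨j, rfl⟩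
    exact app_mem ι V _
  intro O hO s hs y hy
  obtain ⟨z, hz⟩ := hs y hy
  have hspan := FTDescent.gens_span_eq_top F (σ.generators k) y (hVk (hO hy))
  have hmem : A.presheaf.germ O y hy s ∈ Submodule.span (X.presheaf.stalk y)
      (A.presheaf.germ V y (hO hy) '' Set.range fun j => ι.app V (AModX.res F hVk (g j))) := by
    rw [← hz]
    have h1 : RefHull.stalkMapₗ ι y z ∈ Submodule.map (RefHull.stalkMapₗ ι y) ⊤ := ⟨z, trivial, rfl⟩
    rw [← hspan, Submodule.map_span] at h1
    refine Submodule.span_mono ?_ h1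
    rintro _ ⟨_, ⟨j, rfl⟩, rfl⟩
    refine ⟨_, ⟨j, rfl⟩, ?_⟩
    show A.presheaf.germ V y (hO hy) (ι.app V (AModX.res F hVk (g j))) =
      RefHull.stalkMapₗ ι y (F.presheaf.germ (σ.X k) y (hVk (hO hy)) (g j))
    rw [← RefX.germ_res F hVk (hO hy) (g j)]
    exact (TopCat.Presheaf.stalkFunctor_map_germ_apply V y (hO hy) ι.mapPresheaf _).symm
  obtain ⟨P, hP, hyP, w, hw, ew⟩ := exists_lift_span_germ _ (hO hy) hmem
  obtain ⟨Q, hyQ, i, i', hQ⟩ := TopCat.Presheaf.germ_eq A.presheaf y hyP hy w s ew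
  refine ⟨Q, i'.le, hyQ, ?_⟩
  rw [show QCoh.rs A i'.le s = QCoh.rs A i.le w from hQ.symm]
  exact QCoh.span_image_rs_le hP i.le hw

/-- A submodule of finite type of a quasi-coherent module is quasi-coherent. -/
theorem isQCoh_of_mono (ι : F ⟶ A) [Mono ι] (hA : Coh.IsQCoh A) (hF : CohB1.IsFT F) : Coh.IsQCoh F := by
  let N := imSub ι
  have hlift : ι ≫ cokernel.π N.ι = 0 := by
    refine Scheme.Modules.hom_ext _ _ fun O => ?_
    ext s
    show (cokernel.π N.ι).app O (ι.app O s) = 0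
    rw [QCoh.mem_range_iff_cokernel]
    exact N.exists_app_eq (app_mem ι O s)
  let φ : F ⟶ N.toModules := Abelian.monoLift N.ι ι hlift
  have hφ : φ ≫ N.ι = ι := Abelian.monoLift_comp _ _ _
  haveI : Mono φ := by
    haveI : Mono (φ ≫ N.ι) := by rw [hφ]; infer_instance
    exact mono_of_mono φ N.ι
  haveI : IsIso φ := ZClosLib.isIso_of_stalkMap_bijective φ fun x => by
    refine ⟨ZClosLib.stalkMap_injective_of_mono φ x, fun v => ?_⟩
    obtain ⟨O, hxO, m, rfl⟩ := TopCat.Presheaf.exists_germ_eq N.toModules.presheaf v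
    obtain ⟨z, hz⟩ := N.ι_app_mem O m x hxO
    refine ⟨z, ZClosLib.stalkMap_injective_of_mono N.ι x ?_⟩
    have h2 := ZClosLib.stalkMap_comp_apply φ N.ι x z
    rw [hφ] at h2
    refine h2.symm.trans (Eq.trans hz ?_)
    exact (TopCat.Presheaf.stalkFunctor_map_germ_apply O x hxO N.ι.mapPresheaf m).symm
  exact (QCoh.isQCoh_iff_iso (asIso φ)).2 (QCoh.isQCoh_of_ftOn hA (ftOn_imSub ι hF))

end Groth.Agent.Deform.SubFT
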